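import Cfsg.Agent.H384.Cyc.Defs

/-!
# Orders of automorphisms (S3507, TWOCYC; helper446)
-/

set_option autoImplicit false

namespace Cfsg.Agent.H446.Cyc

open Cfsg.Agent.H384.Cyc

universe u

theorem orderOf_le_mul {M : Type u} [Group M] (α : M) {k N : ℕ} (hk : 0 < k) (h : orderOf (α ^ k) ≤ N) :
    orderOf α ≤ k * N := by
  rcases Nat.eq_zero_or_pos (orderOf α) with h0 | h0
  · rw [h0]; exact Nat.zero_le _
  · have h1 : 0 < orderOf (α ^ k) := orderOf_pos_iff.2 (orderOf_pos_iff.1 h0).pow
    have h2 : orderOf α ∣ k * orderOf (α ^ k) := by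
      apply orderOf_dvd_of_pow_eq_one
      rw [pow_mul, pow_orderOf_eq_one]
    exact (Nat.le_of_dvd (Nat.mul_pos hk h1) h2).trans (Nat.mul_le_mul_left k h)

/-- a normal subgroup of index `k` of the automorphism group with elements of order at most `N` -/
theorem mo_of_normal {T : Type u} [Group T] {k N : ℕ} (hk : 0 < k) (D : Subgroup (MulAut T)) [D.Normal]
    (h : ∀ α : MulAut T, α ^ k ∈ D) (hN : ∀ α ∈ D, orderOf α ≤ N) : Mo T (k * N) :=
  fun α => orderOf_le_mul α hk (hN _ (h α))

/-- **Orders of automorphisms**: `|Aut T| = k |T|` -/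
theorem mo_of_card {T : Type u} [Group T] [Finite T] (hz : Subgroup.center T = ⊥) {k N : ℕ}
    (hk : Nat.card (MulAut T) = k * Nat.card T) (hN : ∀ x : T, orderOf x ≤ N) : Mo T (k * N) := by
  have hinj : Function.Injective (MulAut.conj : T →* MulAut T) := by
    rw [← MonoidHom.ker_eq_bot_iff, eq_bot_iff]
    intro x hx
    rw [← hz, Subgroup.mem_center_iff]
    intro y
    have h1 := DFunLike.congr_fun (MonoidHom.mem_ker.1 hx) y
    rw [MulAut.conj_apply, MulAut.one_apply] at h1
    rw [mul_inv_eq_iff_eq_mul] at h1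
    exact h1.symm
  have hfin : Finite (MulAut T) := Finite.of_injective (fun α : MulAut T => (α : T → T))
    (fun α β h => MulEquiv.ext fun x => congrFun h x)
  set D : Subgroup (MulAut T) := (MulAut.conj : T →* MulAut T).range with hD
  have hcard : Nat.card D = Nat.card T := (Nat.card_congr (MonoidHom.ofInjective hinj).toEquiv).symm
  have hn : D.Normal := by
    constructor
    rintro _ ⟨x, rfl⟩ α
    refine ⟨α x, ?_⟩
    ext y
    simp [MulAut.conj_apply]
  have hidx : D.index = k := by
    have h1 := D.card_mul_index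
    rw [hcard, hk, mul_comm] at h1
    exact Nat.eq_of_mul_eq_mul_right Nat.card_pos h1
  have hk0 : 0 < k := by
    rw [← hidx]
    exact Nat.pos_of_ne_zero Subgroup.index_ne_zero_of_finite
  refine mo_of_normal hk0 D (fun α => ?_) ?_
  · have := Subgroup.pow_index_mem D α
    rwa [hidx] at this
  · rintro _ ⟨x, rfl⟩
    rw [orderOf_injective _ hinj]
    exact hN x

theorem center_eq_bot {T : Type u} [Group T] [IsSimpleGroup T] (hna : ¬ IsMulCommutative T) :
    Subgroup.center T = ⊥ := by
  rcases (inferInstance : (Subgroup.center T).Normal).eq_bot_or_eq_top with h | h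
  · exact h
  · exfalso
    apply hna
    refine ⟨⟨fun a b => ?_⟩⟩
    have : b ∈ Subgroup.center T := by rw [h]; trivial
    exact Subgroup.mem_center_iff.1 this a

/-- A simple central quotient is not commutative (as in `CpAut.Fix`). -/
theorem not_comm_quot {H : Type u} [Group H] [hs : IsSimpleGroup (H ⧸ Subgroup.center H)] :
    ¬ IsMulCommutative (H ⧸ Subgroup.center H) := by
  intro hc
  let _ : CommGroup (H ⧸ Subgroup.center H) :=
    { (inferInstance : Group (H ⧸ Subgroup.center H)) with mul_comm := hc.is_comm.comm }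
  have hcyc : IsCyclic (H ⧸ Subgroup.center H) := IsSimpleGroup.isCyclic
  have h1 : ∀ a b : H, a * b = b * a := fun a b =>
    commutative_of_cyclic_center_quotient (QuotientGroup.mk' (Subgroup.center H)) (by rw [QuotientGroup.ker_mk']) a b
  obtain ⟨x, hx⟩ := exists_ne (1 : H ⧸ Subgroup.center H)
  obtain ⟨a, rfl⟩ := QuotientGroup.mk_surjective x
  exact hx ((QuotientGroup.eq_one_iff a).2 (Subgroup.mem_center_iff.2 fun b => h1 b a))

end Cfsg.Agent.H446.Cyc
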